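import Cfsg.Agent.Lib.Unitary.Witt
import Cfsg.Agent.Lib.Unitary.Count
import Cfsg.Agent.EqLemmas
/-
Involutions of SU_3(q), q odd.
* refl q v: x ↦ 2 h(x,v) v - x; reflSU v hv for h v v = 1
* exists_eq_refl: every involution is some reflSU; reflSU_eq_iff, commute_iff
* conj_refl, isConj (one class); card_inv_mul: counting involutions through norm-one vectors
-/
set_option autoImplicit false

namespace Cfsg.Agent.SUThreeInv

open scoped Matrix
open Cfsg.Agent.Unitary

variable {F : Type*} [Field F] {q : ℕ}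

/-- The map `x ↦ 2 h(x, v) v - x`. -/
def refl (q : ℕ) (v : Fin 3 → F) : Matrix (Fin 3) (Fin 3) F :=
  (2 : F) • Matrix.vecMulVec v (fun j => v j ^ q) - 1

/-- The matrix of an element of `SU_3`. -/
abbrev mat (g : Cfsg.SU 3 F q) : Matrix (Fin 3) (Fin 3) F :=
  ((g : Matrix.SpecialLinearGroup (Fin 3) F) : Matrix (Fin 3) (Fin 3) F)

theorem mat_injective : Function.Injective (mat : Cfsg.SU 3 F q → Matrix (Fin 3) (Fin 3) F) :=
  fun _ _ h => Subtype.ext (Subtype.ext h)

theorem mat_mul (g g' : Cfsg.SU 3 F q) : mat (g * g') = mat g * mat g' := rfl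

theorem mat_one : mat (1 : Cfsg.SU 3 F q) = 1 := rfl

theorem det_mat (g : Cfsg.SU 3 F q) : (mat g).det = 1 := (g : Matrix.SpecialLinearGroup (Fin 3) F).2

theorem refl_mulVec (v x : Fin 3 → F) :
    refl q v *ᵥ x = (2 * Cfsg.hermForm 3 F q x v) • v - x := by
  have e : (fun j => v j ^ q) ⬝ᵥ x = Cfsg.hermForm 3 F q x v := by
    simp [dotProduct, Cfsg.hermForm, mul_comm]
  rw [refl, Matrix.sub_mulVec, Matrix.one_mulVec, Matrix.smul_mulVec, Matrix.vecMulVec_mulVec, e,
    op_smul_eq_smul, smul_smul]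

theorem refl_det (v : Fin 3 → F) (hv : Cfsg.hermForm 3 F q v v = 1) : (refl q v).det = 1 := by
  have e : (fun j => v j ^ q) ⬝ᵥ ((-2 : F) • v) = -2 := by
    rw [dotProduct_smul]
    have : (fun j => v j ^ q) ⬝ᵥ v = 1 := by
      simpa [dotProduct, Cfsg.hermForm, mul_comm] using hv
    rw [this, smul_eq_mul, mul_one]
  have h : refl q v = -(1 + Matrix.vecMulVec ((-2 : F) • v) (fun j => v j ^ q)) := by
    rw [refl, Matrix.smul_vecMulVec, neg_smul]; abel
  rw [h, Matrix.det_neg, Fintype.card_fin, Matrix.vecMulVec_eq Unit,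
    Matrix.det_one_add_replicateCol_mul_replicateRow, e]
  norm_num

variable [Fintype F]

theorem two_ne_zero_of_odd (hq : Odd q) (hF : Fintype.card F = q ^ 2) : (2 : F) ≠ 0 := by
  obtain ⟨p, m, hp, hchar, rfl, hm⟩ := exists_prime_pow hF
  intro h2
  have h : ((2 : ℕ) : F) = 0 := by exact_mod_cast h2
  have := (Nat.prime_dvd_prime_iff_eq hp Nat.prime_two).1 ((CharP.cast_eq_zero_iff F p 2).1 h)
  subst this
  exact (Nat.not_even_iff_odd.2 hq) ((Nat.even_pow).2 ⟨even_two, by omega⟩)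

theorem refl_isUnitary (hF : Fintype.card F = q ^ 2) (v : Fin 3 → F)
    (hv : Cfsg.hermForm 3 F q v v = 1) : IsUnitary q (refl q v) := by
  intro x y
  have H := hermForm_isHerm hF 3
  have h2 : (2 : F) ^ q = 2 := by
    rw [← one_add_one_eq_two, add_pow_q hF, one_pow]
  rw [refl_mulVec, refl_mulVec, H.sub_left, H.sub_right hF, H.sub_right hF, H.smul_left, H.smul_left,
    H.smul_right, H.smul_right, hv, mul_pow, h2, ← H.conj_symm y v]
  ring

/-- The involution attached to a norm-one vector. -/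
def reflSU (hF : Fintype.card F = q ^ 2) (v : Fin 3 → F) (hv : Cfsg.hermForm 3 F q v v = 1) :
    Cfsg.SU 3 F q :=
  suOfUnitary (refl q v) (refl_isUnitary hF v hv) (refl_det v hv)

theorem mat_reflSU (hF : Fintype.card F = q ^ 2) (v : Fin 3 → F)
    (hv : Cfsg.hermForm 3 F q v v = 1) : mat (reflSU hF v hv) = refl q v := rfl

theorem refl_self (v : Fin 3 → F) (hv : Cfsg.hermForm 3 F q v v = 1) : refl q v *ᵥ v = v := by
  rw [refl_mulVec, hv, mul_one, two_smul, add_sub_cancel_right]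

theorem refl_perp (v x : Fin 3 → F) (hx : Cfsg.hermForm 3 F q x v = 0) : refl q v *ᵥ x = -x := by
  rw [refl_mulVec, hx, mul_zero, zero_smul, zero_sub]

theorem refl_sq (hF : Fintype.card F = q ^ 2) (v : Fin 3 → F) (hv : Cfsg.hermForm 3 F q v v = 1) :
    refl q v * refl q v = 1 := by
  refine Matrix.ext_iff_mulVec.2 fun x => ?_
  rw [← Matrix.mulVec_mulVec, Matrix.one_mulVec, refl_mulVec v (refl q v *ᵥ x), refl_mulVec,
    (hermForm_isHerm hF 3).sub_left, (hermForm_isHerm hF 3).smul_left, hv]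
  module

theorem exists_perp (hF : Fintype.card F = q ^ 2) {k : ℕ} {b : Fin k → (Fin 3 → F)}
    (hb : Orthonormal (Cfsg.hermForm 3 F q) b) (hk : k < 3) :
    ∃ u, Cfsg.hermForm 3 F q u u = 1 ∧ ∀ i, Cfsg.hermForm 3 F q u (b i) = 0 := by
  obtain ⟨u, hu, hub⟩ := exists_orthonormal_step hF (hermForm_isHerm hF 3) (hermForm_nondeg hF 3) hb
    (by rw [Module.finrank_fin_fun]; exact hk)
  exact ⟨u, hu, fun i => ((hermForm_isHerm hF 3).eq_zero_symm hF).1 (hub i)⟩

theorem orthonormal_one (v : Fin 3 → F) (hv : Cfsg.hermForm 3 F q v v = 1) :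
    Orthonormal (Cfsg.hermForm 3 F q) ![v] :=
  ⟨fun i => by fin_cases i; simpa using hv, fun i j hij => absurd (Subsingleton.elim i j) hij⟩

theorem orthonormal_two (hF : Fintype.card F = q ^ 2) (v w : Fin 3 → F)
    (hv : Cfsg.hermForm 3 F q v v = 1) (hw : Cfsg.hermForm 3 F q w w = 1)
    (hwv : Cfsg.hermForm 3 F q w v = 0) : Orthonormal (Cfsg.hermForm 3 F q) ![v, w] := by
  have hvw := ((hermForm_isHerm hF 3).eq_zero_symm hF).1 hwv
  refine ⟨fun i => ?_, fun i j hij => ?_⟩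
  · fin_cases i
    · simpa using hv
    · simpa using hw
  · fin_cases i <;> fin_cases j
    · exact absurd rfl hij
    · simpa using hvw
    · simpa using hwv
    · exact absurd rfl hij

theorem reflSU_ne_one (hq : Odd q) (hF : Fintype.card F = q ^ 2) (v : Fin 3 → F)
    (hv : Cfsg.hermForm 3 F q v v = 1) : reflSU hF v hv ≠ 1 := by
  intro h
  obtain ⟨u, hu, huv⟩ := exists_perp hF (orthonormal_one v hv) (by norm_num)
  have h1 : refl q v *ᵥ u = u := by rw [← mat_reflSU hF v hv, h, mat_one, Matrix.one_mulVec]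
  rw [refl_perp v u (huv 0)] at h1
  have h2 : (2 : F) • u = 0 := by rw [two_smul]; nth_rewrite 1 [← h1]; exact neg_add_cancel u
  have := (smul_eq_zero.1 h2).resolve_left (two_ne_zero_of_odd hq hF)
  rw [this, (hermForm_isHerm hF 3).zero_left] at hu
  exact zero_ne_one hu

theorem reflSU_mul_self (hF : Fintype.card F = q ^ 2) (v : Fin 3 → F)
    (hv : Cfsg.hermForm 3 F q v v = 1) : reflSU hF v hv * reflSU hF v hv = 1 :=
  mat_injective (refl_sq hF v hv)

theorem ne_zero_of_norm_one (hF : Fintype.card F = q ^ 2) {v : Fin 3 → F}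
    (hv : Cfsg.hermForm 3 F q v v = 1) : v ≠ 0 := fun h => by
  rw [h, (hermForm_isHerm hF 3).zero_left] at hv; exact zero_ne_one hv

/-- A unitary involution with one-dimensional fixed space. -/
theorem eq_refl_of_fixed (hq : Odd q) (hF : Fintype.card F = q ^ 2) (M : Matrix (Fin 3) (Fin 3) F)
    (hM : IsUnitary q M) (hM2 : M * M = 1) (v0 : Fin 3 → F) (hv0 : v0 ≠ 0) (hfix : M *ᵥ v0 = v0)
    (hline : ∀ x, M *ᵥ x = x → ∃ c : F, x = c • v0) :
    ∃ v, Cfsg.hermForm 3 F q v v = 1 ∧ M = refl q v := by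
  have H := hermForm_isHerm hF 3
  have h2 := two_ne_zero_of_odd hq hF
  have hdec : ∀ x, ∃ c : F, x + M *ᵥ x = c • v0 := fun x =>
    hline _ (by rw [Matrix.mulVec_add, Matrix.mulVec_mulVec, hM2, Matrix.one_mulVec, add_comm])
  have hsame : ∀ x, Cfsg.hermForm 3 F q (M *ᵥ x) v0 = Cfsg.hermForm 3 F q x v0 := fun x => by
    conv_lhs => rw [← hfix]
    exact hM x v0
  have hne : Cfsg.hermForm 3 F q v0 v0 ≠ 0 := by
    intro h0
    refine hv0 (hermForm_nondeg hF 3 v0 fun x => (H.eq_zero_symm hF).1 ?_)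
    obtain ⟨c, hc⟩ := hdec x
    have h := congrArg (fun z => Cfsg.hermForm 3 F q z v0) hc
    simp only [H.add_left, H.smul_left, hsame, h0, mul_zero, ← two_mul, mul_eq_zero] at h
    exact h.resolve_left h2
  obtain ⟨s, hs⟩ := exists_norm_eq hF (H.self_fixed v0)
  have hs0 : s ≠ 0 := fun h => hne (by rw [← hs, h, zero_pow (Nat.succ_ne_zero q)])
  refine ⟨s⁻¹ • v0, ?_, Matrix.ext_iff_mulVec.2 fun x => ?_⟩
  · rw [H.smul_left, H.smul_right, ← mul_assoc, ← pow_succ', inv_pow, hs, inv_mul_cancel₀ hne]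
  obtain ⟨c, hc⟩ := hdec x
  have h := congrArg (fun z => Cfsg.hermForm 3 F q z v0) hc
  simp only [H.add_left, H.smul_left, hsame, ← hs] at h
  rw [refl_mulVec, H.smul_right, smul_smul, eq_sub_of_add_eq' hc]
  congr 2
  rw [inv_pow]
  field_simp
  linear_combination -h

/-- Every involution of `SU_3` comes from a norm-one vector. -/
theorem exists_eq_refl (hq : Odd q) (hF : Fintype.card F = q ^ 2) (t : Cfsg.SU 3 F q) (ht : t ≠ 1)
    (ht2 : t * t = 1) : ∃ v, ∃ hv : Cfsg.hermForm 3 F q v v = 1, t = reflSU hF v hv := by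
  have h2 := two_ne_zero_of_odd hq hF
  have hM2 : mat t * mat t = 1 := by rw [← mat_mul, ht2, mat_one]
  have hU : IsUnitary q (mat t) := fun x y => SU_apply t x y
  let T := Matrix.toLin' (mat t)
  have hcompl : IsCompl (LinearMap.ker (T - 1)) (LinearMap.ker (T + 1)) := by
    refine ⟨Submodule.disjoint_def.2 fun x h1 h3 => ?_, codisjoint_iff.2 (eq_top_iff.2 fun x _ => ?_)⟩
    · have a : mat t *ᵥ x - x = 0 := LinearMap.mem_ker.1 h1
      have b : mat t *ᵥ x + x = 0 := LinearMap.mem_ker.1 h3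
      have : (2 : F) • x = 0 := by
        rw [two_smul, show x + x = (mat t *ᵥ x + x) - (mat t *ᵥ x - x) by abel, a, b, sub_zero]
      exact (smul_eq_zero.1 this).resolve_left h2
    · refine Submodule.mem_sup.2 ⟨(2 : F)⁻¹ • (x + mat t *ᵥ x), ?_, (2 : F)⁻¹ • (x - mat t *ᵥ x), ?_, ?_⟩
      · refine LinearMap.mem_ker.2 ?_
        show mat t *ᵥ ((2 : F)⁻¹ • (x + mat t *ᵥ x)) - (2 : F)⁻¹ • (x + mat t *ᵥ x) = 0
        rw [Matrix.mulVec_smul, Matrix.mulVec_add, Matrix.mulVec_mulVec, hM2, Matrix.one_mulVec,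
          add_comm, sub_self]
      · refine LinearMap.mem_ker.2 ?_
        show mat t *ᵥ ((2 : F)⁻¹ • (x - mat t *ᵥ x)) + (2 : F)⁻¹ • (x - mat t *ᵥ x) = 0
        rw [Matrix.mulVec_smul, Matrix.mulVec_sub, Matrix.mulVec_mulVec, hM2, Matrix.one_mulVec,
          ← smul_add, sub_add_sub_cancel, sub_self, smul_zero]
      · rw [← smul_add, show x + mat t *ᵥ x + (x - mat t *ᵥ x) = (2 : F) • x by rw [two_smul]; abel,
          smul_smul, inv_mul_cancel₀ h2, one_smul]
  have hsum := Submodule.finrank_add_eq_of_isCompl hcompl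
  rw [Module.finrank_fin_fun] at hsum
  have hline : ∀ (W : Submodule F (Fin 3 → F)), Module.finrank F W = 1 →
      ∃ v0 ∈ W, v0 ≠ 0 ∧ ∀ x ∈ W, ∃ c : F, x = c • v0 := by
    intro W hW
    obtain ⟨⟨v0, hv0⟩, hne, hgen⟩ := finrank_eq_one_iff'.1 hW
    exact ⟨v0, hv0, fun h => hne (Subtype.ext h),
      fun x hx => (hgen ⟨x, hx⟩).imp fun c hc => (congrArg Subtype.val hc).symm⟩
  have hp : ∀ x, x ∈ LinearMap.ker (T - 1) ↔ mat t *ᵥ x = x := fun x =>
    LinearMap.mem_ker.trans sub_eq_zero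
  have hm : ∀ x, x ∈ LinearMap.ker (T + 1) ↔ mat t *ᵥ x = -x := fun x =>
    LinearMap.mem_ker.trans add_eq_zero_iff_eq_neg
  by_cases h1 : Module.finrank F (LinearMap.ker (T - 1)) = 1
  · obtain ⟨v0, hv0, hne, hgen⟩ := hline _ h1
    obtain ⟨v, hv, he⟩ := eq_refl_of_fixed hq hF _ hU hM2 v0 hne ((hp v0).1 hv0)
      fun x hx => hgen x ((hp x).2 hx)
    exact ⟨v, hv, mat_injective he⟩
  exfalso
  by_cases h3 : Module.finrank F (LinearMap.ker (T + 1)) = 1
  · obtain ⟨v0, hv0, hne, hgen⟩ := hline _ h3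
    have hUn : IsUnitary q (-mat t) := fun x y => by
      rw [Matrix.neg_mulVec, Matrix.neg_mulVec, (hermForm_isHerm hF 3).neg_left,
        (hermForm_isHerm hF 3).neg_right hF, neg_neg]
      exact hU x y
    obtain ⟨v, hv, he⟩ := eq_refl_of_fixed hq hF (-mat t) hUn (by rw [neg_mul_neg, hM2]) v0 hne
      (by rw [Matrix.neg_mulVec, (hm v0).1 hv0, neg_neg])
      fun x hx => hgen x ((hm x).2 (by rw [Matrix.neg_mulVec] at hx; rw [← neg_eq_iff_eq_neg, hx]))
    have hdet := congrArg Matrix.det he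
    rw [Matrix.det_neg, det_mat, refl_det v hv, Fintype.card_fin] at hdet
    norm_num at hdet
    exact h2 (by linear_combination -hdet)
  have hall : ∀ (W : Submodule F (Fin 3 → F)), Module.finrank F W = 3 → ∀ x, x ∈ W := fun W hW x => by
    rw [Submodule.eq_top_of_finrank_eq (hW.trans (Module.finrank_fin_fun F).symm)]
    trivial
  rcases (by omega : Module.finrank F (LinearMap.ker (T - 1)) = 3 ∨
      Module.finrank F (LinearMap.ker (T + 1)) = 3) with h | h
  · refine ht (mat_injective (Matrix.ext_iff_mulVec.2 fun x => ?_))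
    rw [(hp x).1 (hall _ h x), mat_one, Matrix.one_mulVec]
  · have e : mat t = -1 := Matrix.ext_iff_mulVec.2 fun x => by
      rw [(hm x).1 (hall _ h x), Matrix.neg_mulVec, Matrix.one_mulVec]
    have hdet := det_mat t
    rw [e, Matrix.det_neg, Matrix.det_one, Fintype.card_fin] at hdet
    norm_num at hdet
    exact h2 (by linear_combination -hdet)

theorem reflSU_eq_iff (hq : Odd q) (hF : Fintype.card F = q ^ 2) {v w : Fin 3 → F}
    (hv : Cfsg.hermForm 3 F q v v = 1) (hw : Cfsg.hermForm 3 F q w w = 1) :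
    reflSU hF v hv = reflSU hF w hw ↔ ∃ c : F, w = c • v := by
  have H := hermForm_isHerm hF 3
  constructor
  · intro h
    have h1 : refl q v *ᵥ w = w := by
      rw [← mat_reflSU hF v hv, h, mat_reflSU, refl_self w hw]
    rw [refl_mulVec, sub_eq_iff_eq_add, ← two_smul F w] at h1
    refine ⟨Cfsg.hermForm 3 F q w v, ?_⟩
    refine smul_right_injective (Fin 3 → F) (two_ne_zero_of_odd hq hF) ?_
    show (2 : F) • w = (2 : F) • _
    rw [← h1, smul_smul]
  · rintro ⟨c, rfl⟩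
    refine mat_injective (Matrix.ext_iff_mulVec.2 fun x => ?_)
    rw [mat_reflSU, mat_reflSU, refl_mulVec, refl_mulVec, H.smul_right, smul_smul]
    congr 2
    rw [H.smul_left, H.smul_right, hv, mul_one] at hw
    linear_combination (-(2 * Cfsg.hermForm 3 F q x v)) * hw

/-- Two such involutions commute iff the points are equal or orthogonal. -/
theorem commute_iff (hq : Odd q) (hF : Fintype.card F = q ^ 2) {v w : Fin 3 → F}
    (hv : Cfsg.hermForm 3 F q v v = 1) (hw : Cfsg.hermForm 3 F q w w = 1) :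
    Commute (reflSU hF v hv) (reflSU hF w hw) ↔
      Cfsg.hermForm 3 F q w v = 0 ∨ ∃ c : F, w = c • v := by
  have H := hermForm_isHerm hF 3
  have h2 := two_ne_zero_of_odd hq hF
  constructor
  · intro h
    by_cases h0 : Cfsg.hermForm 3 F q w v = 0
    · exact Or.inl h0
    refine Or.inr ?_
    have e := congrFun (congrArg (fun g => fun x => mat g *ᵥ x) h.eq) w
    simp only [mat_mul, ← Matrix.mulVec_mulVec, mat_reflSU, refl_self w hw] at e
    rw [refl_mulVec, refl_mulVec (x := _ - w), H.sub_left, H.smul_left, hw] at e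
    set a := Cfsg.hermForm 3 F q w v with ha
    set b := Cfsg.hermForm 3 F q v w with hb
    have e2 : (2 * a) • v = (2 * a * b) • w := by
      have h' : (2 : F) • ((2 * a) • v) = (2 : F) • ((2 * a * b) • w) := by
        linear_combination (norm := module) e
      exact smul_right_injective (Fin 3 → F) h2 h'
    have hc : 2 * a * b ≠ 0 := by
      intro hc
      rw [hc, zero_smul, smul_eq_zero] at e2
      rcases e2 with e2 | e2
      · exact mul_ne_zero h2 h0 e2
      · exact ne_zero_of_norm_one hF hv e2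
    refine ⟨(2 * a * b)⁻¹ * (2 * a), ?_⟩
    rw [← smul_smul, e2, inv_smul_smul₀ hc]
  · rintro (h0 | ⟨c, hc⟩)
    · have h0' : Cfsg.hermForm 3 F q v w = 0 := (H.eq_zero_symm hF).1 h0
      refine mat_injective (Matrix.ext_iff_mulVec.2 fun x => ?_)
      simp only [mat_mul, ← Matrix.mulVec_mulVec, mat_reflSU, refl_mulVec, H.sub_left, H.smul_left, h0, h0',
        hv, hw]
      module
    · rw [(reflSU_eq_iff hq hF hv hw).2 ⟨c, hc⟩]

theorem norm_mat (g : Cfsg.SU 3 F q) {v : Fin 3 → F} (hv : Cfsg.hermForm 3 F q v v = 1) :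
    Cfsg.hermForm 3 F q (mat g *ᵥ v) (mat g *ᵥ v) = 1 := (SU_apply g v v).trans hv

theorem conj_reflSU (hF : Fintype.card F = q ^ 2) (g : Cfsg.SU 3 F q) (v : Fin 3 → F)
    (hv : Cfsg.hermForm 3 F q v v = 1) :
    g * reflSU hF v hv * g⁻¹ = reflSU hF (mat g *ᵥ v) (norm_mat g hv) := by
  rw [mul_inv_eq_iff_eq_mul]
  refine mat_injective (Matrix.ext_iff_mulVec.2 fun x => ?_)
  simp only [mat_mul, ← Matrix.mulVec_mulVec, mat_reflSU, refl_mulVec, Matrix.mulVec_sub,
    Matrix.mulVec_smul]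
  congr 3
  exact (SU_apply g x v).symm

theorem exists_mat_map (hF : Fintype.card F = q ^ 2) {v w : Fin 3 → F}
    (hv : Cfsg.hermForm 3 F q v v = 1) (hw : Cfsg.hermForm 3 F q w w = 1) :
    ∃ g : Cfsg.SU 3 F q, mat g *ᵥ v = w := by
  obtain ⟨e, he, hew⟩ := exists_perp hF (orthonormal_one w hw) (by norm_num)
  obtain ⟨g, hg⟩ := exists_su_witt (u := ![v]) (w := ![w]) hF
    ((orthonormal_one v hv).linearIndependent (hermForm_isHerm hF 3))
    ((orthonormal_one w hw).linearIndependent (hermForm_isHerm hF 3))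
    (fun i j => by fin_cases i; fin_cases j; simp [hv, hw]) he
    (fun i => ((hermForm_isHerm hF 3).eq_zero_symm hF).1 (hew i))
  exact ⟨g, hg 0⟩

theorem isConj (hq : Odd q) (hF : Fintype.card F = q ^ 2) (t x : Cfsg.SU 3 F q) (ht : t ≠ 1)
    (ht2 : t * t = 1) (hx : x ≠ 1) (hx2 : x * x = 1) : ∃ g : Cfsg.SU 3 F q, g * t * g⁻¹ = x := by
  obtain ⟨v, hv, rfl⟩ := exists_eq_refl hq hF t ht ht2
  obtain ⟨w, hw, rfl⟩ := exists_eq_refl hq hF x hx hx2
  obtain ⟨g, rfl⟩ := exists_mat_map hF hv hw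
  exact ⟨g, conj_reflSU hF g v hv⟩

/-- Counting involutions through norm-one vectors. -/
theorem card_inv_mul (hq : Odd q) (hF : Fintype.card F = q ^ 2) (P : Cfsg.SU 3 F q → Prop) :
    Nat.card {x : Cfsg.SU 3 F q // x ≠ 1 ∧ x * x = 1 ∧ P x} * (q + 1) =
      Nat.card {v : Fin 3 → F // ∃ hv : Cfsg.hermForm 3 F q v v = 1, P (reflSU hF v hv)} := by
  classical
  have H := hermForm_isHerm hF 3
  let f : {v : Fin 3 → F // ∃ hv : Cfsg.hermForm 3 F q v v = 1, P (reflSU hF v hv)} →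
      {x : Cfsg.SU 3 F q // x ≠ 1 ∧ x * x = 1 ∧ P x} := fun v =>
    ⟨reflSU hF v.1 v.2.1, reflSU_ne_one hq hF _ _, reflSU_mul_self hF _ _, v.2.2⟩
  have hfib : ∀ x, Nat.card {a // f a = x} = q + 1 := by
    rintro ⟨x, hx1, hx2, hP⟩
    obtain ⟨v, hv, rfl⟩ := exists_eq_refl hq hF x hx1 hx2
    rw [← card_norm_one hF]
    have hsm : ∀ c : F, c ^ (q + 1) = 1 → Cfsg.hermForm 3 F q (c • v) (c • v) = 1 := fun c hc => by
      rw [H.smul_left, H.smul_right, hv, mul_one, ← pow_succ', hc]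
    have heq : ∀ (c : F) (hc : c ^ (q + 1) = 1), reflSU hF (c • v) (hsm c hc) = reflSU hF v hv :=
      fun c hc => ((reflSU_eq_iff hq hF hv (hsm c hc)).2 ⟨c, rfl⟩).symm
    refine (Nat.card_congr (Equiv.ofBijective (fun c : {c : F // c ^ (q + 1) = 1} =>
      (⟨⟨c.1 • v, hsm c.1 c.2, (heq c.1 c.2).symm ▸ hP⟩, Subtype.ext (heq c.1 c.2)⟩ :
        {a // f a = ⟨reflSU hF v hv, hx1, hx2, hP⟩})) ⟨fun c d h => ?_, ?_⟩)).symm
    · have h' : c.1 • v = d.1 • v := congrArg (fun z => z.1.1) h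
      exact Subtype.ext (smul_left_injective F (ne_zero_of_norm_one hF hv) h')
    · rintro ⟨⟨w, hw, hPw⟩, hfw⟩
      obtain ⟨c, rfl⟩ := (reflSU_eq_iff hq hF hv hw).1 (congrArg Subtype.val hfw).symm
      refine ⟨⟨c, ?_⟩, rfl⟩
      rw [H.smul_left, H.smul_right, hv, mul_one, ← pow_succ'] at hw
      exact hw
  rw [← Nat.card_congr (Equiv.sigmaFiberEquiv f), Nat.card_sigma, Finset.sum_congr rfl fun x _ => hfib x,
    Finset.sum_const, smul_eq_mul, Finset.card_univ, Nat.card_eq_fintype_card]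

end Cfsg.Agent.SUThreeInv
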